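import Cfsg.Agent.Lib.PLocal.QdConsumers
import Cfsg.Agent.Lib.Fusion.Group
import Cfsg.Agent.Lib.Fusion.Model
import Cfsg.Agent.Lib.Fusion.Centric
import Cfsg.Agent.Lib.Fusion.Local
import Cfsg.Agent.Lib.Fusion.Saturation
import Cfsg.Prelude.Def_FusionReduction

/-!
Sections isomorphic to `Qd(p)` seen in the fusion system of a group.
-/

set_option autoImplicit false

open scoped MatrixGroups

namespace CfsgLib.FusionQd

open CfsgLib.PLoc Cfsg.FusionSystem CfsgLib.Fusion

variable {p : ℕ}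

/-- The natural module, written multiplicatively. -/
abbrev Nat2 (p : ℕ) := Multiplicative (ZMod p × ZMod p)

/-- Elements of `W` induce every element of `SL(2,p)` on the quotient `j` of `V`. -/
def QdAct {G : Type*} [Group G] (V : Subgroup G) (j : V →* Nat2 p) (W : Set G) : Prop :=
  ∀ A : SL(2, ZMod p), ∃ g ∈ W, ∃ hn : ∀ v : V, g * (v : G) * g⁻¹ ∈ V,
    ∀ v : V, j ⟨g * (v : G) * g⁻¹, hn v⟩ = Multiplicative.ofAdd (sl2Act A (j v).toAdd)

theorem sl2Act_inj {A B : SL(2, ZMod p)} (h : ∀ x : ZMod p × ZMod p, sl2Act A x = sl2Act B x) :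
    A = B := by
  apply Matrix.SpecialLinearGroup.ext
  intro i j
  have h1 := h (1, 0)
  have h2 := h (0, 1)
  simp [sl2Act, Prod.ext_iff] at h1 h2
  fin_cases i <;> fin_cases j
  exacts [h1.1, h2.1, h1.2, h2.2]

theorem hasQdSection_of_act [Fact p.Prime] (hp2 : p ≠ 2) {L : Type*} [Group L] [Finite L]
    (V : Subgroup L) (j : V →* Nat2 p) (hj : Function.Surjective j)
    (hA : QdAct V j Set.univ) : HasQdSection p L := by
  classical
  set R : Subgroup L := j.ker.map V.subtype with hR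
  set H := Subgroup.normalizer (V : Set L) ⊓ Subgroup.normalizer (R : Set L) with hH
  have hVH : V ≤ H := le_inf Subgroup.le_normalizer
    (le_trans (by rw [← MonoidHom.range_eq_map, Subgroup.range_subtype] : V ≤ (⊤ : Subgroup V).map V.subtype)
      ((Subgroup.map_mono (Subgroup.normalizer_eq_top j.ker).ge).trans
        (Subgroup.le_normalizer_map V.subtype)))
  set Rn := R.subgroupOf H with hRn
  haveI : Rn.Normal := Subgroup.normal_subgroupOf_of_le_normalizer inf_le_right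
  set q := QuotientGroup.mk' Rn with hq
  have hker : j.ker ≤ (q.comp (Subgroup.inclusion hVH)).ker := fun v hv =>
    (QuotientGroup.eq_one_iff _).2 (Subgroup.mem_subgroupOf.2 ⟨v, hv, rfl⟩)
  let j' : Nat2 p →* H ⧸ Rn :=
    (QuotientGroup.lift j.ker (q.comp (Subgroup.inclusion hVH)) hker).comp
      (QuotientGroup.quotientKerEquivOfSurjective j hj).symm.toMonoidHom
  have hj' : ∀ v : V, j' (j v) = q (Subgroup.inclusion hVH v) := fun v => by
    have h : (QuotientGroup.quotientKerEquivOfSurjective j hj).symm (j v) = (v : V ⧸ j.ker) := by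
      rw [MulEquiv.symm_apply_eq]; rfl
    show QuotientGroup.lift j.ker _ hker ((QuotientGroup.quotientKerEquivOfSurjective j hj).symm (j v)) = _
    rw [h]
    rfl
  have hinj : Function.Injective j' := by
    rw [injective_iff_map_eq_one]
    intro x hx
    obtain ⟨v, rfl⟩ := hj x
    rw [hj'] at hx
    obtain ⟨w, hw, hwv⟩ := Subgroup.mem_subgroupOf.1 ((QuotientGroup.eq_one_iff _).1 hx)
    rw [← Subtype.ext hwv]
    exact hw
  let Acts (k : H ⧸ Rn) (A : SL(2, ZMod p)) : Prop :=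
    ∀ x : ZMod p × ZMod p, k * j' (Multiplicative.ofAdd x) * k⁻¹ =
      j' (Multiplicative.ofAdd (sl2Act A x))
  have hActsmul : ∀ k k' A B, Acts k A → Acts k' B → Acts (k * k') (A * B) := by
    intro k k' A B hk hk' x
    rw [sl2Act_mul, ← hk, ← hk']
    group
  have huniq : ∀ k A B, Acts k A → Acts k B → A = B := fun k A B hk hk' => sl2Act_inj fun x =>
    Multiplicative.ofAdd.injective (hinj ((hk x).symm.trans (hk' x)))
  let K : Subgroup (H ⧸ Rn) :=
    { carrier := {k | ∃ A, Acts k A}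
      one_mem' := ⟨1, fun x => by rw [sl2Act_one, one_mul, inv_one, mul_one]⟩
      mul_mem' := fun {k k'} ⟨A, hk⟩ ⟨B, hk'⟩ => ⟨A * B, hActsmul k k' A B hk hk'⟩
      inv_mem' := fun {k} ⟨A, hk⟩ => ⟨A⁻¹, fun x => by
        have h := hk (sl2Act A⁻¹ x)
        rw [← sl2Act_mul, mul_inv_cancel, sl2Act_one] at h
        rw [← h]
        group⟩ }
  let π : K →* SL(2, ZMod p) := MonoidHom.mk' (fun k => Classical.choose k.2) fun k k' =>
    huniq _ _ _ (Classical.choose_spec (k * k').2)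
      (hActsmul _ _ _ _ (Classical.choose_spec k.2) (Classical.choose_spec k'.2))
  refine hasQdSection_of_subgroup H (hasQdSection_of_surjective (QuotientGroup.mk'_surjective Rn)
    (hasQdSection_of_natural hp2 j' hinj π ?_ fun k x => Classical.choose_spec k.2 x))
  intro A
  obtain ⟨g, -, hn, hg⟩ := hA A
  have hgV : g ∈ Subgroup.normalizer (V : Set L) :=
    Subgroup.mem_normalizer_fintype fun x hx => hn ⟨x, hx⟩
  have hgR : g ∈ Subgroup.normalizer (R : Set L) := by
    refine Subgroup.mem_normalizer_fintype ?_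
    rintro _ ⟨v, hv, rfl⟩
    refine ⟨⟨_, hn v⟩, ?_, rfl⟩
    show j _ = 1
    rw [hg v, show j v = 1 from hv, toAdd_one]
    simp [sl2Act]
  have hk : Acts (q ⟨g, hgV, hgR⟩) A := by
    intro x
    obtain ⟨v, hv⟩ := hj (Multiplicative.ofAdd x)
    have hgv : sl2Act A x = (j ⟨g * (v : L) * g⁻¹, hn v⟩).toAdd := by
      rw [hg v, hv]; simp
    rw [← hv, hgv, ofAdd_toAdd, hj', hj', ← map_inv, ← map_mul, ← map_mul]
    exact congrArg q (Subtype.ext rfl)
  exact ⟨⟨q ⟨g, hgV, hgR⟩, A, hk⟩, huniq _ _ _ (Classical.choose_spec (⟨A, hk⟩ : ∃ B, Acts _ B)) hk⟩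

/-- Transporting the action along a homomorphism. -/
theorem qdAct_map {G L : Type*} [Group G] [Group L] {U : Subgroup G} (ι : U →* L)
    (hι : Function.Injective ι) {V : Subgroup G} (hVU : V ≤ U) (j : V →* Nat2 p)
    (hj : Function.Surjective j) {W : Set G} (hA : QdAct V j W) {W' : Set L}
    (htr : ∀ g ∈ W, ∀ hn : ∀ v : V, g * (v : G) * g⁻¹ ∈ V, ∃ l ∈ W', ∀ v : V,
      l * ι ⟨v, hVU v.2⟩ * l⁻¹ = ι ⟨g * (v : G) * g⁻¹, hVU (hn v)⟩) :
    ∃ (V' : Subgroup L) (j' : V' →* Nat2 p),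
      V' = (V.subgroupOf U).map ι ∧ Function.Surjective j' ∧ QdAct V' j' W' := by
  let f : V →* L := ι.comp (Subgroup.inclusion hVU)
  have hf : Function.Injective f := hι.comp (Subgroup.inclusion_injective hVU)
  let e : V ≃* f.range := MonoidHom.ofInjective hf
  refine ⟨f.range, j.comp e.symm.toMonoidHom, ?_, hj.comp e.symm.surjective, ?_⟩
  · ext y
    constructor
    · rintro ⟨v, rfl⟩
      exact ⟨_, v.2, rfl⟩
    · rintro ⟨u, hu, rfl⟩
      exact ⟨⟨u, hu⟩, rfl⟩
  intro A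
  obtain ⟨g, hgW, hn, hg⟩ := hA A
  obtain ⟨l, hlW, hl⟩ := htr g hgW hn
  have hmem : ∀ y : f.range, l * (y : L) * l⁻¹ = f ⟨_, hn (e.symm y)⟩ := by
    intro y
    conv_lhs => rw [show (y : L) = f (e.symm y) from (MonoidHom.apply_ofInjective_symm hf y).symm]
    exact hl (e.symm y)
  refine ⟨l, hlW, fun y => ⟨_, (hmem y).symm⟩, fun y => ?_⟩
  show j (e.symm _) = _
  have h1 : e.symm ⟨l * (y : L) * l⁻¹, ⟨_, (hmem y).symm⟩⟩ = ⟨_, hn (e.symm y)⟩ := by
    rw [MulEquiv.symm_apply_eq]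
    exact Subtype.ext (hmem y)
  rw [h1]
  exact hg (e.symm y)

/-- A `Qd(p)` section gives a `p`-subgroup with the natural action on a quotient. -/
theorem exists_act_of_hasQdSection [Fact p.Prime] {G : Type*} [Group G] [Finite G]
    (h : HasQdSection p G) :
    ∃ (V : Subgroup G) (j : V →* Nat2 p), IsPGroup p V ∧ Function.Surjective j ∧
      QdAct V j Set.univ := by
  obtain ⟨K, R, hR, ⟨e⟩⟩ := h
  let f : K →* ↥(Cfsg.qd p) := e.toMonoidHom.comp (QuotientGroup.mk' _)
  have hf : Function.Surjective f := e.surjective.comp (QuotientGroup.mk'_surjective _)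
  haveI : (CfsgLib.Qd.translations p).Normal := CfsgLib.Qd.translations_normal
  set T := (CfsgLib.Qd.translations p).comap f with hT
  haveI : T.Normal := Subgroup.Normal.comap inferInstance f
  obtain ⟨P0⟩ : Nonempty (Sylow p T) := inferInstance
  have htop : Subgroup.normalizer (((P0 : Subgroup T).map T.subtype) : Set K) ⊔ T = ⊤ :=
    Sylow.normalizer_sup_eq_top P0
  set V0 := (P0 : Subgroup T).map T.subtype with hV0
  set V := V0.map K.subtype with hV
  let ek : V0 ≃* V := V0.equivMapOfInjective _ K.subtype_injective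
  -- coordinates on the translations
  let coord : ↥(CfsgLib.Qd.translations p) →* Nat2 p := MonoidHom.mk'
    (fun t => Multiplicative.ofAdd ((t.1.1 : Matrix (Fin 3) (Fin 3) (ZMod p)) 0 2,
      (t.1.1 : Matrix (Fin 3) (Fin 3) (ZMod p)) 1 2))
    (by
      rintro ⟨_, x, y, rfl⟩ ⟨_, x', y', rfl⟩
      rw [show (⟨CfsgLib.Qd.tra x y, ⟨x, y, rfl⟩⟩ : ↥(CfsgLib.Qd.translations p)) *
          ⟨CfsgLib.Qd.tra x' y', ⟨x', y', rfl⟩⟩ =
          ⟨CfsgLib.Qd.tra (x + x') (y + y'), ⟨_, _, rfl⟩⟩ from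
        Subtype.ext (CfsgLib.Qd.tra_mul x y x' y')]
      simp [CfsgLib.Qd.tra, CfsgLib.Qd.mk, ← ofAdd_add])
  have hcoord : ∀ x y, coord ⟨CfsgLib.Qd.tra x y, CfsgLib.Qd.tra_mem x y⟩ =
      Multiplicative.ofAdd (x, y) := fun x y => by
    simp [coord, CfsgLib.Qd.tra, CfsgLib.Qd.mk]
  let g0 : V0 →* ↥(CfsgLib.Qd.translations p) := (f.comp V0.subtype).codRestrict _ fun v => by
    obtain ⟨t, -, ht⟩ := v.2
    show f (v : K) ∈ _
    rw [← ht]
    exact t.2
  have hg0 : Function.Surjective g0 := by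
    intro y
    let fT : T →* ↥(CfsgLib.Qd.translations p) := f.subgroupComap _
    have hfT : Function.Surjective fT := f.subgroupComap_surjective_of_surjective _ hf
    have hp' : IsPGroup p ↥(CfsgLib.Qd.translations p) := fun t => ⟨1, Subtype.ext (by
      rw [pow_one, SubgroupClass.coe_pow, OneMemClass.coe_one]
      exact CfsgLib.Qd.translations_pow t.2)⟩
    have htop' : (P0 : Subgroup T).map fT = ⊤ := by
      rw [← Sylow.coe_mapSurjective hfT]
      exact ((P0.mapSurjective hfT).3 (hp'.to_subgroup ⊤) le_top).symm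
    obtain ⟨t, ht, hty⟩ : y ∈ (P0 : Subgroup T).map fT := htop' ▸ Subgroup.mem_top y
    exact ⟨⟨t, t, ht, rfl⟩, hty⟩
  let j : V →* Nat2 p := (coord.comp g0).comp ek.symm.toMonoidHom
  refine ⟨V, j, (P0.2.map _).map _, ?_, ?_⟩
  · intro x
    obtain ⟨v, hv⟩ := hg0 ⟨CfsgLib.Qd.tra x.toAdd.1 x.toAdd.2, CfsgLib.Qd.tra_mem _ _⟩
    refine ⟨ek v, ?_⟩
    show coord (g0 (ek.symm (ek v))) = x
    rw [ek.symm_apply_apply, hv, hcoord]
    rfl
  intro A
  obtain ⟨k, hk⟩ := hf (qdLinear p A)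
  have hk' : k ∈ Subgroup.normalizer (V0 : Set K) ⊔ T := htop ▸ Subgroup.mem_top k
  rw [Subgroup.mem_sup_of_normal_right] at hk'
  obtain ⟨m, hm, t, ht, rfl⟩ := hk'
  have hmn : ∀ v : V, (m : G) * (v : G) * (m : G)⁻¹ ∈ V := by
    rintro ⟨_, v, hv, rfl⟩
    exact ⟨m * v * m⁻¹, (Subgroup.mem_normalizer_iff.1 hm v).1 hv, rfl⟩
  refine ⟨m, Set.mem_univ _, hmn, fun v => ?_⟩
  set w := ek.symm v with hw
  have hwv : ((w : K) : G) = v := congrArg Subtype.val (ek.apply_symm_apply v)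
  have hek : ek.symm ⟨(m : G) * (v : G) * (m : G)⁻¹, hmn v⟩ =
      ⟨m * (w : K) * m⁻¹, (Subgroup.mem_normalizer_iff.1 hm _).1 w.2⟩ := by
    rw [MulEquiv.symm_apply_eq]
    exact Subtype.ext (congrArg (fun z : G => (m : G) * z * (m : G)⁻¹) hwv.symm)
  show coord (g0 (ek.symm _)) = Multiplicative.ofAdd (sl2Act A (coord (g0 w)).toAdd)
  rw [hek]
  obtain ⟨x, y, hxy⟩ := CfsgLib.Qd.mem_translations.1 (g0 w).2
  have hfw : f (w : K) = CfsgLib.Qd.tra x y := hxy
  obtain ⟨a, b, hab⟩ := CfsgLib.Qd.mem_translations.1 (Subgroup.mem_comap.1 ht)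
  have hconj : f (m * (w : K) * m⁻¹) =
      qdTrans p (Multiplicative.ofAdd (sl2Act A (x, y))) := by
    rw [← qdLinear_conj_qdTrans, ← hk]
    have hc : f t * f (w : K) = f (w : K) * f t := by
      rw [hfw, hab, CfsgLib.Qd.tra_mul, CfsgLib.Qd.tra_mul, add_comm a x, add_comm b y]
    show _ = f (m * t) * qdTrans p (Multiplicative.ofAdd (x, y)) * (f (m * t))⁻¹
    rw [show qdTrans p (Multiplicative.ofAdd (x, y)) = f (w : K) from hfw.symm]
    rw [map_mul f m t, map_mul, map_mul, map_inv, mul_inv_rev, mul_assoc (f m) (f t), hc]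
    simp [mul_assoc]
  have h1 : coord (g0 w) = Multiplicative.ofAdd (x, y) := by
    rw [show g0 w = ⟨CfsgLib.Qd.tra x y, CfsgLib.Qd.tra_mem x y⟩ from Subtype.ext hfw, hcoord]
  have h2 : g0 ⟨m * (w : K) * m⁻¹, (Subgroup.mem_normalizer_iff.1 hm _).1 w.2⟩ =
      ⟨CfsgLib.Qd.tra (sl2Act A (x, y)).1 (sl2Act A (x, y)).2, CfsgLib.Qd.tra_mem _ _⟩ :=
    Subtype.ext hconj
  rw [h1, h2, hcoord]
  rfl

/-- A `p`-subgroup grows to one containing its centralizer's Sylow group, keeping the action. -/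
theorem qdAct_enlarge [Fact p.Prime] {G : Type*} [Group G] [Finite G] {V : Subgroup G}
    (hV : IsPGroup p V) (j : V →* Nat2 p) (hA : QdAct V j Set.univ) :
    ∃ Q : Subgroup G, V ≤ Q ∧ IsPGroup p Q ∧
      (∀ x ∈ Subgroup.centralizer (Q : Set G), (∃ k : ℕ, x ^ p ^ k = 1) → x ∈ Q) ∧
      QdAct V j (Subgroup.normalizer (Q : Set G) : Set G) := by
  set C := Subgroup.centralizer (V : Set G) with hC
  obtain ⟨C0⟩ : Nonempty (Sylow p C) := inferInstance
  set C1 := (C0 : Subgroup C).map C.subtype with hC1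
  have hC1p : IsPGroup p C1 := C0.2.map _
  have hC1C : C1 ≤ C := Subgroup.map_subtype_le _
  have hnorm : V ≤ Subgroup.normalizer (C1 : Set G) := by
    intro v hv
    refine Subgroup.mem_normalizer_fintype fun c hc => ?_
    rw [← (Subgroup.mem_centralizer_iff.1 (hC1C hc) v hv).symm, mul_inv_cancel_right]
    exact hc
  refine ⟨V ⊔ C1, le_sup_left, hV.to_sup_of_normal_right' hC1p hnorm, fun x hx hxp => ?_, ?_⟩
  · refine Subgroup.mem_sup_right ?_
    have hxC : x ∈ C := Subgroup.centralizer_le (SetLike.coe_subset_coe.2 le_sup_left) hx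
    have hle : C0.toSubgroup ≤ C0.toSubgroup ⊔ Subgroup.zpowers ⟨x, hxC⟩ := le_sup_left
    have hp' : IsPGroup p ↥(C0.toSubgroup ⊔ Subgroup.zpowers (⟨x, hxC⟩ : C)) := by
      refine C0.2.to_sup_of_normal_left' ?_ (Subgroup.zpowers_le.2 ?_)
      · obtain ⟨k, hk⟩ := hxp
        rintro ⟨_, n, rfl⟩
        exact ⟨k, Subtype.ext (by
          show ((⟨x, hxC⟩ : C) ^ n) ^ p ^ k = 1
          rw [← zpow_natCast, zpow_comm, zpow_natCast,
            show (⟨x, hxC⟩ : C) ^ p ^ k = 1 from Subtype.ext (by simpa using hk), one_zpow])⟩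
      · refine Subgroup.mem_normalizer_fintype fun c hc => ?_
        have hcx : c * ⟨x, hxC⟩ = ⟨x, hxC⟩ * c := Subtype.ext
          (Subgroup.mem_centralizer_iff.1 hx (c : G) (Subgroup.mem_sup_right ⟨c, hc, rfl⟩))
        rw [← hcx, mul_inv_cancel_right]
        exact hc
    exact ⟨⟨x, hxC⟩, C0.3 hp' hle ▸ Subgroup.mem_sup_right (Subgroup.mem_zpowers _), rfl⟩
  intro A
  obtain ⟨g, -, hn, hg⟩ := hA A
  have hgV : g ∈ Subgroup.normalizer (V : Set G) :=
    Subgroup.mem_normalizer_fintype fun x hx => hn ⟨x, hx⟩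
  have hgC : C1.map (MulAut.conj g).toMonoidHom ≤ C := by
    rintro _ ⟨c, hc, rfl⟩
    refine Subgroup.mem_centralizer_iff.2 fun v hv => ?_
    have h1 := Subgroup.mem_centralizer_iff.1 (hC1C hc) (g⁻¹ * v * g) (by
      have := (Subgroup.mem_normalizer_iff.1 (inv_mem hgV) v).1 hv
      rwa [inv_inv] at this)
    have h2 := congrArg (fun t => g * t * g⁻¹) h1
    simpa [mul_assoc] using h2
  have hsyl : IsSylowIn p C1 C :=
    ⟨C0, (Subgroup.comap_map_eq_self_of_injective C.subtype_injective (C0 : Subgroup C)).symm⟩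
  obtain ⟨c, hc, hcg⟩ := hsyl.exists_conj_le (hC1p.map _) hgC
  have hcv : ∀ v : V, c * g * (v : G) * (c * g)⁻¹ = g * (v : G) * g⁻¹ := fun v => by
    rw [mul_inv_rev, show c * g * (v : G) * (g⁻¹ * c⁻¹) = c * (g * v * g⁻¹) * c⁻¹ by group,
      ← Subgroup.mem_centralizer_iff.1 hc _ (hn v), mul_inv_cancel_right]
  have hC1n : c * g ∈ Subgroup.normalizer (C1 : Set G) := Subgroup.mem_normalizer_fintype fun x hx => by
    have := hcg _ ⟨x, hx, rfl⟩
    show c * g * x * (c * g)⁻¹ ∈ C1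
    rw [show c * g * x * (c * g)⁻¹ = c * (g * x * g⁻¹) * c⁻¹ by group]
    exact this
  have hVn : c * g ∈ Subgroup.normalizer (V : Set G) :=
    mul_mem (centralizer_le_normalizer V hc) hgV
  refine ⟨c * g, ?_, fun v => by rw [hcv]; exact hn v, fun v => ?_⟩
  · show c * g ∈ Subgroup.normalizer ((V ⊔ C1 : Subgroup G) : Set G)
    rw [Subgroup.mem_normalizer_iff_map_conj_eq, Subgroup.map_sup,
      Subgroup.mem_normalizer_iff_map_conj_eq.1 hVn, Subgroup.mem_normalizer_iff_map_conj_eq.1 hC1n]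
  · rw [← hg v]
    exact congrArg j (Subtype.ext (hcv v))

/-- A group has a section `Qd(p)` iff a model in its fusion system does. -/
theorem isSectionFree_iff [Fact p.Prime] (hp2 : p ≠ 2) {G : Type*} [Group G] [Finite G]
    (S : Sylow p G) :
    (Cfsg.groupFusionSystem (S : Subgroup G)).IsSectionFree p ↥(Cfsg.qd p) ↔
      ¬ HasQdSection p G := by
  set F := Cfsg.groupFusionSystem (S : Subgroup G) with hF
  have hFs : F.IsSaturated p := groupFusionSystem_isSaturated S
  have hSp : IsPGroup p (S : Subgroup G) := S.2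
  constructor
  · intro hfree h
    obtain ⟨V, j, hV, hj, hA⟩ := exists_act_of_hasQdSection h
    obtain ⟨Q0, hVQ0, hQ0p, hQ0c, hA0⟩ := qdAct_enlarge hV j hA
    obtain ⟨T, hT⟩ := hQ0p.exists_le_sylow
    obtain ⟨a, ha⟩ := MulAction.exists_smul_eq G T S
    set Q1 := Q0.map (MulAut.conj a).toMonoidHom with hQ1
    have hQ1S : Q1 ≤ (S : Subgroup G) := by
      rintro _ ⟨x, hx, rfl⟩
      rw [← ha, Sylow.coe_subgroup_smul]
      exact ⟨x, hT hx, rfl⟩
    obtain ⟨Q, hQconj, hQfn⟩ := exists_isFullyNormalized F hQ1S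
    obtain ⟨-, hQS, b, hb⟩ := group_isConj_iff.1 hQconj
    have hQdef : Q = Q0.map (MulAut.conj (b * a)).toMonoidHom := by
      rw [← hb, hQ1, Subgroup.map_map]
      congr 1
      ext x
      simp [mul_assoc]
    set c := b * a with hc
    have hQc : F.IsCentric Q := by
      refine ⟨hQS, fun R hR x hx => ?_⟩
      obtain ⟨-, hRS, d, hd⟩ := group_isConj_iff.1 hR
      subst hd
      have hmem : (d * c)⁻¹ * x * (d * c) ∈ Q0 := by
        refine hQ0c _ (Subgroup.mem_centralizer_iff.2 fun q hq => ?_) ?_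
        · have h1 := Subgroup.mem_centralizer_iff.1 hx.2 (d * (c * q * c⁻¹) * d⁻¹)
            ⟨_, hQdef ▸ (⟨q, hq, rfl⟩ : c * q * c⁻¹ ∈ Q0.map (MulAut.conj c).toMonoidHom), rfl⟩
          have h2 := congrArg (fun t => (d * c)⁻¹ * t * (d * c)) h1
          simpa [mul_assoc] using h2
        · obtain ⟨k, hk⟩ := hSp ⟨x, hx.1⟩
          refine ⟨k, ?_⟩
          have hk' : x ^ p ^ k = 1 := congrArg Subtype.val hk
          have := conj_pow (a := (d * c)⁻¹) (b := x) (i := p ^ k)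
          rw [inv_inv] at this
          rw [this, hk']
          group
      refine ⟨c * ((d * c)⁻¹ * x * (d * c)) * c⁻¹, hQdef ▸ ⟨_, hmem, rfl⟩, ?_⟩
      simp [mul_assoc]
    obtain ⟨L, _, ι, τ, hmod, hτs, -, hequiv, -⟩ := CfsgLib.FusionModel.exists_model hSp hFs hQc hQfn hQS
      (normalizerSystem F Q hQS) (isNormalizerSystem_normalizerSystem F Q hQS)
    have := hmod.1
    refine hfree Q hQfn hQc _ (isNormalizerSystem_normalizerSystem F Q hQS) L ι hmod ?_
    have hQ0mem : ∀ q : Q0, c * (q : G) * c⁻¹ ∈ Q := fun q => hQdef ▸ ⟨_, q.2, rfl⟩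
    let κ : Q0 →* L := (ι.comp (Subgroup.inclusion (le_normalizerIn hQS))).comp
      (((MulAut.conj c).toMonoidHom.comp Q0.subtype).codRestrict Q hQ0mem)
    have hκ : Function.Injective κ := fun u v h => by
      have h1 := congrArg Subtype.val (Subgroup.inclusion_injective _ (hmod.2.1.1 h))
      exact Subtype.ext ((MulAut.conj c).injective h1)
    obtain ⟨V', j', -, hj', hA'⟩ := qdAct_map κ hκ hVQ0 j hj hA0 (W' := Set.univ) fun g hg hn => by
      have hgQ : c * g * c⁻¹ ∈ Subgroup.normalizer (Q : Set G) := by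
        refine Subgroup.mem_normalizer_fintype ?_
        intro y hy
        obtain ⟨q, hq, rfl⟩ := hQdef.le hy
        refine hQdef.ge ⟨g * q * g⁻¹, (Subgroup.mem_normalizer_iff.1 hg q).1 hq, ?_⟩
        simp [mul_assoc]
      have hmem : conjAut Q _ hgQ ∈ F.autGroup Q := by
        rw [group_autGroup_eq hQS]
        exact conjAut_mem_autInducedBy (Subgroup.mem_top _) _
      obtain ⟨l, hl⟩ := hτs ⟨_, hmem⟩
      refine ⟨l, Set.mem_univ l, fun v => ?_⟩
      refine (hequiv l ⟨c * (v : G) * c⁻¹, hQ0mem ⟨v, hVQ0 v.2⟩⟩).trans ?_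
      rw [hl]
      refine congrArg ι (Subgroup.inclusion_injective le_top (Subtype.ext ?_))
      show c * g * c⁻¹ * (c * (v : G) * c⁻¹) * (c * g * c⁻¹)⁻¹ = c * (g * (v : G) * g⁻¹) * c⁻¹
      group
    exact hasQdSection_of_act hp2 V' j' hj' hA'
  · intro hG Q _ hQc N hN L _ ι hmod h
    apply hG
    have := hmod.1
    obtain ⟨⟨hι, hreal⟩, ⟨T, hT⟩, -⟩ := hmod.2
    obtain ⟨V, j, hV, hj, hA⟩ := exists_act_of_hasQdSection h
    obtain ⟨T', hT'⟩ := hV.exists_le_sylow
    obtain ⟨a, ha⟩ := MulAction.exists_smul_eq L T' T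
    have hVT : ∀ v : V, a * (v : L) * a⁻¹ ∈ ι.range := fun v => by
      rw [← hT, ← ha, Sylow.coe_subgroup_smul]
      exact ⟨_, hT' v.2, rfl⟩
    let e := MonoidHom.ofInjective hι
    let κ : V →* G := (normalizerIn (S : Subgroup G) Q).subtype.comp (e.symm.toMonoidHom.comp
      (((MulAut.conj a).toMonoidHom.comp V.subtype).codRestrict ι.range hVT))
    have hκ : Function.Injective κ := fun u v h => by
      have h1 := congrArg Subtype.val (e.symm.injective (Subtype.ext h))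
      exact Subtype.ext ((MulAut.conj a).injective h1)
    obtain ⟨V', j', -, hj', hA'⟩ := qdAct_map κ hκ le_rfl j hj hA (W' := Set.univ) fun g _ hn => by
      let P : Subgroup G := κ.range
      have hP : P ≤ normalizerIn (S : Subgroup G) Q := by
        rintro _ ⟨v, rfl⟩
        exact SetLike.coe_mem _
      have hPN : ∀ x : P, a * g * a⁻¹ * ι (Subgroup.inclusion hP x) * (a * g * a⁻¹)⁻¹ ∈ ι.range := by
        rintro ⟨_, v, rfl⟩
        have h1 : ι (Subgroup.inclusion hP ⟨κ v, v, rfl⟩) = a * (v : L) * a⁻¹ :=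
          MonoidHom.apply_ofInjective_symm hι _
        rw [h1]
        have h2 := hVT ⟨_, hn v⟩
        convert h2 using 1
        group
      let φ : P →* G := (normalizerIn (S : Subgroup G) Q).subtype.comp (e.symm.toMonoidHom.comp
        (((MulAut.conj (a * g * a⁻¹)).toMonoidHom.comp (ι.comp (Subgroup.inclusion hP))).codRestrict
          ι.range hPN))
      have hφ : φ ∈ N.Hom P := (hreal P hP φ fun x => SetLike.coe_mem _).2
        ⟨a * g * a⁻¹, fun x => MonoidHom.apply_ofInjective_symm hι _⟩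
      obtain ⟨-, -, w, hw⟩ := ((hN P).subset hφ).1
      refine ⟨w, Set.mem_univ w, fun v => ?_⟩
      refine (hw ⟨κ v, v, rfl⟩).symm.trans ?_
      show ((e.symm _ : normalizerIn (S : Subgroup G) Q) : G) = ((e.symm _ : normalizerIn (S : Subgroup G) Q) : G)
      congr 2
      apply Subtype.ext
      show a * g * a⁻¹ * ι (Subgroup.inclusion hP ⟨κ v, v, rfl⟩) * (a * g * a⁻¹)⁻¹ =
        a * (g * (v : L) * g⁻¹) * a⁻¹
      rw [show ι (Subgroup.inclusion hP ⟨κ v, v, rfl⟩) = a * (v : L) * a⁻¹ from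
        MonoidHom.apply_ofInjective_symm hι _]
      group
    exact hasQdSection_of_act hp2 V' j' hj' hA'

end CfsgLib.FusionQd
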